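import Groth.Prelude.Def_W4c5stacksedinertiaGpd
import Mathlib.GroupTheory.GroupAction.Quotient
import Mathlib.GroupTheory.GroupAction.ConjAct
import Mathlib.LinearAlgebra.Eigenspace.Basic
import Mathlib.Data.Nat.Choose.Sum
import Mathlib.Tactic

/-!
The inertia operators on the rational vector space of finite groupoids.
-/

set_option autoImplicit false
set_option linter.style.haveILetI false
set_option backward.isDefEq.respectTransparency false

universe u v

open Module

namespace Groth.Agent.InertiaK

open W4c5stacksedinertia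

/-- The transported presentation is isomorphic to the group. -/
noncomputable def carrierEquiv (G : Type u) [Group G] [Finite G] : (FinGrp.of G).carrier ≃* G where
  toEquiv := (Nat.equivFinOfCardPos (α := G) Nat.card_pos.ne').symm
  map_mul' x y := (Nat.equivFinOfCardPos (α := G) Nat.card_pos.ne').symm_apply_apply _

theorem idx_of_congr {G : Type u} {H : Type v} [Group G] [Finite G] [Group H] [Finite H] (e : G ≃* H) :
    Idx.of G = Idx.of H := by
  exact Quotient.sound ⟨((carrierEquiv G).trans e).trans (carrierEquiv H).symm⟩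

theorem cl_congr {G : Type u} {H : Type v} [Group G] [Finite G] [Group H] [Finite H] (e : G ≃* H) :
    cl G = cl H := congrArg (fun i => Finsupp.single i (1 : ℚ)) (idx_of_congr e)

/-- The representative of the class of a group is isomorphic to it. -/
theorem nonempty_rep_equiv (G : Type u) [Group G] [Finite G] : Nonempty ((Idx.of G).rep ≃* G) := by
  obtain ⟨e⟩ := Quotient.mk_out (s := FinGrp.setoid) (FinGrp.of G)
  exact ⟨e.trans (carrierEquiv G)⟩

theorem of_rep (i : Idx) : Idx.of i.rep = i := by
  refine Eq.trans ?_ (Quotient.out_eq (s := FinGrp.setoid) i)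
  exact Quotient.sound ⟨carrierEquiv i.rep⟩

theorem cl_rep (i : Idx) : cl i.rep = Finsupp.single i 1 :=
  congrArg (fun j => Finsupp.single j (1 : ℚ)) (of_rep i)

theorem centerCard_of (G : Type u) [Group G] [Finite G] :
    (Idx.of G).centerCard = Nat.card (Subgroup.center G) := by
  obtain ⟨e⟩ := nonempty_rep_equiv G
  exact Nat.card_congr (Subgroup.centerCongr e).toEquiv

/-- The weighted class of the common centralizer of a set. -/
noncomputable def W (G : Type u) [Group G] [Finite G] (X : Set G) : K :=
  (Nat.card (Subgroup.centralizer X) : ℚ) • cl (Subgroup.centralizer X)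

theorem W_congr {G : Type u} {H : Type v} [Group G] [Finite G] [Group H] [Finite H] (e : G ≃* H) (X : Set G) :
    W H (e '' X) = W G X := by
  let f : Subgroup.centralizer X ≃* Subgroup.centralizer (e '' X) :=
    { toFun := fun x => ⟨e x.1, by
        rintro _ ⟨y, hy, rfl⟩
        rw [← map_mul, ← map_mul, x.2 y hy]⟩
      invFun := fun x => ⟨e.symm x.1, fun y hy => e.injective (by
        simpa using x.2 _ ⟨y, hy, rfl⟩)⟩
      left_inv := fun x => Subtype.ext (e.symm_apply_apply _)
      right_inv := fun x => Subtype.ext (e.apply_symm_apply _)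
      map_mul' := fun x y => Subtype.ext (map_mul e _ _) }
  rw [W, W, cl_congr f, Nat.card_congr f.toEquiv]

noncomputable instance fintypeCommTuple (G : Type u) [Group G] [Finite G] (r : ℕ) : Fintype (CommTuple G r) :=
  haveI : Finite (CommTuple G r) := Finite.of_injective (fun s => s.1) fun _ _ h => Subtype.ext h
  Fintype.ofFinite _

noncomputable instance fintypeOrbit (G : Type u) [Group G] [Finite G] (r : ℕ) :
    Fintype (CommTuple.Orbit G r) :=
  haveI : Finite (CommTuple.Orbit G r) := Quotient.finite _
  Fintype.ofFinite _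

theorem card_fibre_mul (G : Type u) [Group G] [Finite G] {r : ℕ} (s : CommTuple G r) :
    Nat.card {t : CommTuple G r // (CommTuple.setoid G r).r s t} * Nat.card (Subgroup.centralizer (Set.range s.1)) =
      Nat.card G := by
  have h : Nat.card (MulAction.orbit (ConjAct G) s.1) * Nat.card (MulAction.stabilizer (ConjAct G) s.1) = Nat.card (ConjAct G) := by
    rw [← Nat.card_prod]; exact Nat.card_congr (MulAction.orbitProdStabilizerEquivGroup _ _)
  have h₁ : Nat.card (MulAction.orbit (ConjAct G) s.1) =
      Nat.card {t : CommTuple G r // (CommTuple.setoid G r).r s t} := by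
    symm
    refine Nat.card_congr ⟨fun t => ⟨t.1.1, ?_⟩, fun t => ⟨⟨t.1, ?_⟩, ?_⟩, fun t => rfl, fun t => rfl⟩
    · obtain ⟨g, hg⟩ := t.2
      exact ⟨ConjAct.toConjAct g, funext hg⟩
    · obtain ⟨g, hg⟩ := t.2
      have hg' : ∀ i, t.1 i = ConjAct.ofConjAct g * s.1 i * (ConjAct.ofConjAct g)⁻¹ := fun i => by
        rw [← hg]; rfl
      refine ⟨fun i j e => s.2.1 (by rw [hg', hg'] at e; simpa using e), fun i j => ?_⟩
      rw [hg', hg']
      exact Commute.conj (s.2.2 i j) _
    · obtain ⟨g, hg⟩ := t.2
      exact ⟨ConjAct.ofConjAct g, fun i => congrFun hg i⟩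
  have h₂ : Nat.card (MulAction.stabilizer (ConjAct G) s.1) = Nat.card (Subgroup.centralizer (Set.range s.1)) := by
    refine Nat.card_congr (ConjAct.ofConjAct.toEquiv.subtypeEquiv fun g => ?_)
    rw [MulAction.mem_stabilizer_iff, Subgroup.mem_centralizer_iff, funext_iff, Set.forall_mem_range]
    refine forall_congr' fun i => ?_
    change ConjAct.ofConjAct g * s.1 i * (ConjAct.ofConjAct g)⁻¹ = s.1 i ↔ _
    rw [mul_inv_eq_iff_eq_mul]
    exact eq_comm
  rw [← h₁, ← h₂, h]
  rfl

/-- The orbit sum is a weighted sum over all tuples. -/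
theorem inertiaROf_eq (r : ℕ) (G : Type u) [Group G] [Finite G] :
    inertiaROf r G = (Nat.card G : ℚ)⁻¹ • ∑ s : CommTuple G r, W G (Set.range s.1) := by
  classical
  rw [inertiaROf, finsum_eq_sum_of_fintype, ← Fintype.sum_fiberwise (fun s : CommTuple G r =>
    Quotient.mk (CommTuple.setoid G r) s) (fun s => W G (Set.range s.1)), Finset.smul_sum]
  refine Finset.sum_congr (Finset.ext fun _ => by simp) fun O _ => ?_
  set s₀ := Quotient.out (s := CommTuple.setoid G r) O with hs₀
  have hconst : ∀ t : {t : CommTuple G r // Quotient.mk (CommTuple.setoid G r) t = O},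
      W G (Set.range t.1.1) = W G (Set.range s₀.1) := by
    rintro ⟨t, ht⟩
    obtain ⟨g, hg⟩ := Quotient.exact (ht.trans (Quotient.out_eq (s := CommTuple.setoid G r) O).symm)
    rw [← hs₀] at hg
    rw [← W_congr (MulAut.conj g) (Set.range t.1), ← Set.range_comp]
    congr 2
    exact funext hg
  rw [Fintype.sum_congr _ _ hconst, Finset.sum_const, ← Nat.cast_smul_eq_nsmul ℚ, smul_smul,
    W, smul_smul]
  refine (one_smul ℚ _).symm.trans (congrArg (· • cl _) ?_)
  rw [Finset.card_univ, ← Nat.card_eq_fintype_card]
  have e : Nat.card {t : CommTuple G r // Quotient.mk (CommTuple.setoid G r) t = O} =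
      Nat.card {t : CommTuple G r // (CommTuple.setoid G r).r s₀ t} := by
    refine Nat.card_congr (Equiv.subtypeEquivRight fun t => ?_)
    conv_lhs => rw [← Quotient.out_eq (s := CommTuple.setoid G r) O, ← hs₀]
    exact ⟨fun h => Quotient.exact h.symm, fun h => (Quotient.sound h).symm⟩
  have := card_fibre_mul G s₀
  rw [← e] at this
  have hG : (Nat.card G : ℚ) ≠ 0 := Nat.cast_ne_zero.2 Nat.card_pos.ne'
  rw [mul_assoc, ← Nat.cast_mul, this, inv_mul_cancel₀ hG]

theorem inertiaROf_congr {G : Type u} {H : Type v} [Group G] [Finite G] [Group H] [Finite H] (e : G ≃* H)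
    (r : ℕ) : inertiaROf r H = inertiaROf r G := by
  rw [inertiaROf_eq, inertiaROf_eq, Nat.card_congr e.toEquiv]
  congr 1
  let f : CommTuple G r ≃ CommTuple H r :=
    { toFun := fun s => ⟨fun i => e (s.1 i), e.injective.comp s.2.1, fun i j => (s.2.2 i j).map e⟩
      invFun := fun s => ⟨fun i => e.symm (s.1 i), e.symm.injective.comp s.2.1, fun i j => (s.2.2 i j).map e.symm⟩
      left_inv := fun s => Subtype.ext (funext fun i => e.symm_apply_apply _)
      right_inv := fun s => Subtype.ext (funext fun i => e.apply_symm_apply _) }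
  refine (Fintype.sum_equiv f _ _ fun s => ?_).symm
  rw [← W_congr e, ← Set.range_comp]
  rfl

theorem inertiaR_cl (r : ℕ) (G : Type u) [Group G] [Finite G] : inertiaR r (cl G) = inertiaROf r G := by
  rw [inertiaR, cl, Finsupp.linearCombination_single, one_smul]
  obtain ⟨e⟩ := nonempty_rep_equiv G
  exact (inertiaROf_congr e r).symm

theorem inertiaR_single (r : ℕ) (i : Idx) : inertiaR r (Finsupp.single i 1) = inertiaROf r i.rep := by
  rw [inertiaR, Finsupp.linearCombination_single, one_smul]

theorem inertiaR_zero : inertiaR 0 = LinearMap.id := by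
  refine Finsupp.lhom_ext' fun i => LinearMap.ext_ring ?_
  change inertiaR 0 (Finsupp.single i 1) = Finsupp.single i 1
  rw [inertiaR_single, inertiaROf_eq]
  haveI : Unique (CommTuple i.rep 0) :=
    ⟨⟨⟨Fin.elim0, fun a => a.elim0, fun a => a.elim0⟩⟩, fun s => Subtype.ext (funext fun a => a.elim0)⟩
  rw [Fintype.sum_unique, W, smul_smul]
  have e : Subgroup.centralizer (Set.range (default : CommTuple i.rep 0).1) = ⊤ := by
    rw [Set.range_eq_empty]; simp
  rw [cl_congr ((MulEquiv.subgroupCongr e).trans Subgroup.topEquiv), Nat.card_congr ((MulEquiv.subgroupCongr e).trans Subgroup.topEquiv).toEquiv,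
    inv_mul_cancel₀ (Nat.cast_ne_zero.2 Nat.card_pos.ne'), one_smul, cl_rep]

theorem inertiaROf_eq_zero {r : ℕ} {G : Type u} [Group G] [Finite G] (h : Nat.card G < r) :
    inertiaROf r G = 0 := by
  rw [inertiaROf_eq, Finset.sum_eq_zero, smul_zero]
  intro s _
  exact absurd (Nat.card_le_card_of_injective s.1 s.2.1) (by simpa using h)

theorem W_singleton (G : Type u) [Group G] [Finite G] (X : Set G) (g : Subgroup.centralizer X) :
    W (Subgroup.centralizer X) {g} = W G (insert g.1 X) := by
  let f : Subgroup.centralizer ({g} : Set (Subgroup.centralizer X)) ≃* Subgroup.centralizer (insert g.1 X) :=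
    { toFun := fun x => ⟨x.1.1, by
        rintro y (rfl | hy)
        · exact congrArg Subtype.val (x.2 g rfl)
        · exact x.1.2 y hy⟩
      invFun := fun x => ⟨⟨x.1, fun y hy => x.2 y (Or.inr hy)⟩, by
        rintro y rfl
        exact Subtype.ext (x.2 y.1 (Or.inl rfl))⟩
      left_inv := fun x => rfl
      right_inv := fun x => rfl
      map_mul' := fun x y => rfl }
  rw [W, W, cl_congr f, Nat.card_congr f.toEquiv]

/-- The recursion between the inertia operators. -/
theorem inertia_inertiaR (r : ℕ) (v : K) : inertia (inertiaR r v) = inertiaR (r + 1) v + (r : ℚ) • inertiaR r v := by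
  suffices h : inertia.comp (inertiaR r) = inertiaR (r + 1) + (r : ℚ) • inertiaR r from LinearMap.congr_fun h v
  refine Finsupp.lhom_ext' fun i => LinearMap.ext_ring ?_
  change inertia (inertiaR r (Finsupp.single i 1)) =
    inertiaR (r + 1) (Finsupp.single i 1) + (r : ℚ) • inertiaR r (Finsupp.single i 1)
  classical
  letI : Fintype i.rep := Fintype.ofFinite _
  simp only [inertiaR_single, inertiaROf_eq, map_smul, map_sum, smul_comm (r : ℚ), ← smul_add]
  congr 1
  have key : ∀ s : CommTuple i.rep r, inertia (W i.rep (Set.range s.1)) =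
      (r : ℚ) • W i.rep (Set.range s.1) +
        ∑ g : {g : i.rep // g ∈ Subgroup.centralizer (Set.range s.1) ∧ g ∉ Set.range s.1},
          W i.rep (insert g.1 (Set.range s.1)) := by
    intro s
    letI : Fintype i.rep := Fintype.ofFinite _
    conv_lhs => rw [W, map_smul, inertiaR_cl, inertiaROf_eq, smul_smul,
      mul_inv_cancel₀ (Nat.cast_ne_zero.2 Nat.card_pos.ne'), one_smul]
    let e : CommTuple (Subgroup.centralizer (Set.range s.1)) 1 ≃ Subgroup.centralizer (Set.range s.1) :=
      { toFun := fun t => t.1 0
        invFun := fun g => ⟨fun _ => g, fun a b _ => Subsingleton.elim a b, fun _ _ => Commute.refl g⟩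
        left_inv := fun t => Subtype.ext (funext fun a => by rw [Subsingleton.elim a 0])
        right_inv := fun g => rfl }
    rw [Fintype.sum_equiv e _ (fun g => W i.rep (insert g.1 (Set.range s.1))) fun t => by
      rw [← W_singleton]; congr 1; exact Set.range_unique]
    let S := Finset.univ.filter fun g : i.rep => g ∈ Subgroup.centralizer (Set.range s.1)
    rw [← Finset.sum_subtype S (fun g => by simp [S]) (fun g => W i.rep (insert g (Set.range s.1))),
      ← Finset.sum_filter_add_sum_filter_not S (fun g => g ∈ Set.range s.1),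
      ← Finset.sum_subtype (S.filter fun g => g ∉ Set.range s.1) (fun g => by simp [S])
        (fun g => W i.rep (insert g (Set.range s.1)))]
    congr 1
    have e : S.filter (fun g => g ∈ Set.range s.1) = Finset.univ.image s.1 := by
      ext g
      simp only [S, Finset.mem_filter, Finset.mem_univ, true_and, Finset.mem_image, Set.mem_range]
      refine ⟨fun h => h.2, fun ⟨a, ha⟩ => ⟨?_, a, ha⟩⟩
      rintro _ ⟨b, rfl⟩
      rw [← ha]
      exact s.2.2 b a
    rw [e, Finset.sum_image fun a _ b _ h => s.2.1 h, Finset.sum_congr rfl fun a _ => by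
      rw [Set.insert_eq_of_mem (Set.mem_range_self a)], Finset.sum_const, Finset.card_univ, Fintype.card_fin,
      ← Nat.cast_smul_eq_nsmul ℚ]
  rw [Finset.sum_congr rfl fun s _ => key s, Finset.sum_add_distrib, ← Finset.smul_sum, add_comm,
    ← Fintype.sum_sigma']
  congr 1
  let E : (Σ s : CommTuple i.rep r, {g : i.rep // g ∈ Subgroup.centralizer (Set.range s.1) ∧ g ∉ Set.range s.1}) ≃
      CommTuple i.rep (r + 1) :=
    { toFun := fun p => ⟨Fin.snoc p.1.1 p.2.1, Fin.snoc_injective_iff.2 ⟨p.1.2.1, p.2.2.2⟩, fun a b => by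
        refine Fin.lastCases ?_ (fun a => ?_) a
        · refine Fin.lastCases (Commute.refl _) (fun b => ?_) b
          simp only [Fin.snoc_last, Fin.snoc_castSucc]
          exact (p.2.2.1 _ (Set.mem_range_self b)).symm
        · refine Fin.lastCases ?_ (fun b => ?_) b
          · simp only [Fin.snoc_last, Fin.snoc_castSucc]
            exact p.2.2.1 _ (Set.mem_range_self a)
          · simp only [Fin.snoc_castSucc]
            exact p.1.2.2 a b⟩
      invFun := fun t => ⟨⟨Fin.init t.1, t.2.1.comp (Fin.castSucc_injective r), fun a b => t.2.2 _ _⟩,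
        t.1 (Fin.last r), by rintro _ ⟨b, rfl⟩; exact t.2.2 _ _,
        fun ⟨b, hb⟩ => Fin.castSucc_ne_last b (t.2.1 hb)⟩
      left_inv := fun p => by
        refine Sigma.ext (Subtype.ext (Fin.init_snoc (α := fun _ => i.rep) _ _)) ?_
        refine (Subtype.heq_iff_coe_eq fun g => ?_).2 (Fin.snoc_last (α := fun _ => i.rep) _ _)
        simp only [Fin.init_snoc]
      right_inv := fun t => Subtype.ext (Fin.snoc_init_self _) }
  refine Fintype.sum_equiv E _ _ fun p => ?_
  congr 1
  exact (Fin.range_snoc _ _).symm

end Groth.Agent.InertiaK
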