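import Groth.Agent.InertiaK.Basic
import Mathlib.Data.Fintype.CardEmbedding

/-!
Diagonalisation of the inertia operator.
-/

set_option autoImplicit false
set_option linter.style.haveILetI false
set_option backward.isDefEq.respectTransparency false

universe u

open Module

namespace Groth.Agent.InertiaK

open W4c5stacksedinertia

theorem inertia_minus (k r : ℕ) (v : K) :
    inertia (inertiaR r v) - (k : ℚ) • inertiaR r v = inertiaR (r + 1) v + ((r : ℚ) - k) • inertiaR r v := by
  rw [inertia_inertiaR, sub_smul]; abel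

/-- On an eigenvector the operators act by falling factorials. -/
theorem inertiaR_of_eigen {μ : ℚ} {v : K} (h : inertia v = μ • v) (r : ℕ) :
    inertiaR r v = (∏ j ∈ Finset.range r, (μ - j)) • v := by
  induction r with
  | zero => simp [inertiaR_zero]
  | succ r ih =>
    have := inertia_inertiaR r v
    rw [ih, map_smul, h, smul_smul, smul_smul] at this
    rw [Finset.prod_range_succ, mul_sub, sub_smul, this, mul_comm (r : ℚ)]
    abel

theorem prod_sub_eq (k r : ℕ) : (∏ j ∈ Finset.range r, ((k : ℚ) - j)) = ((Nat.factorial r * Nat.choose k r : ℕ) : ℚ) := by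
  rw [← Nat.descFactorial_eq_factorial_mul_choose]
  induction r with
  | zero => simp
  | succ r ih =>
    rw [Finset.prod_range_succ, ih, Nat.descFactorial_succ, Nat.cast_mul, mul_comm]
    rcases le_or_gt r k with h | h
    · rw [Nat.cast_sub h]
    · simp [Nat.descFactorial_eq_zero_iff_lt.2 h]

theorem inertiaR_eq_zero_of_card {r : ℕ} {v : K} (h : ∀ i ∈ v.support, i.card < r) : inertiaR r v = 0 := by
  rw [inertiaR, Finsupp.linearCombination_apply]
  refine Finset.sum_eq_zero fun i hi => ?_
  simp only [inertiaROf_eq_zero (h i hi), smul_zero]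

theorem exists_bound (v : K) : ∃ N : ℕ, ∀ r, N ≤ r → inertiaR r v = 0 :=
  ⟨v.support.sup Idx.card + 1, fun _ hr => inertiaR_eq_zero_of_card fun i hi =>
    lt_of_lt_of_le (Nat.lt_succ_of_le (Finset.le_sup hi)) hr⟩

theorem inertiaR_succ_eq_zero {r : ℕ} {v : K} (h : inertiaR r v = 0) : inertiaR (r + 1) v = 0 := by
  simpa [h] using (inertia_inertiaR r v).symm

theorem inertiaR_eq_zero_of_le {r r' : ℕ} {v : K} (h : inertiaR r v = 0) (hr : r ≤ r') : inertiaR r' v = 0 := by
  induction hr with
  | refl => exact h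
  | step _ ih => exact inertiaR_succ_eq_zero ih

/-- The coefficients of the eigenprojections. -/
noncomputable def coeff (r k : ℕ) : ℚ := ((-1 : ℚ) ^ (r + k)) / (Nat.factorial r : ℚ) * (Nat.choose r k : ℚ)

theorem coeff_succ (r k : ℕ) : coeff (r + 1) k * ((r + 1 : ℕ) - (k : ℚ)) + coeff r k = 0 := by
  have h : (Nat.choose (r + 1) k : ℚ) * ((r + 1 : ℕ) - (k : ℚ)) = (Nat.choose r k : ℚ) * (r + 1 : ℕ) := by
    rcases le_or_gt k (r + 1) with hk | hk
    · rw [← Nat.cast_sub hk]
      exact_mod_cast (Nat.choose_mul_succ_eq r k).symm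
    · rw [Nat.choose_eq_zero_of_lt hk, Nat.choose_eq_zero_of_lt (by omega)]; simp
  rw [coeff, coeff, Nat.factorial_succ, mul_assoc, h, Nat.cast_mul,
    show r + 1 + k = r + k + 1 by omega, pow_succ]
  field_simp
  ring

theorem proj_finite {v : K} {N : ℕ} (hN : ∀ r, N ≤ r → inertiaR r v = 0) (k : ℕ) :
    (∑ᶠ r : ℕ, coeff r k • inertiaR r v) = ∑ r ∈ Finset.range N, coeff r k • inertiaR r v :=
  finsum_eq_sum_of_support_subset _ fun r hr => by
    simp only [Finset.coe_range, Set.mem_Iio]
    by_contra h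
    exact hr (by simp [hN r (not_lt.1 h)])

theorem proj_mem {v : K} (k : ℕ) : (∑ᶠ r : ℕ, coeff r k • inertiaR r v) ∈ Module.End.eigenspace inertia (k : ℚ) := by
  obtain ⟨N, hN⟩ := exists_bound v
  rw [proj_finite hN, Module.End.mem_eigenspace_iff, ← sub_eq_zero, map_sum, Finset.smul_sum,
    ← Finset.sum_sub_distrib]
  have h : ∀ M, (∑ r ∈ Finset.range M, (coeff r k • inertiaR (r + 1) v + (coeff r k * ((r : ℚ) - k)) • inertiaR r v)) =
      (coeff 0 k * ((0 : ℚ) - k)) • inertiaR 0 v - (coeff M k * ((M : ℚ) - k)) • inertiaR M v := by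
    intro M
    induction M with
    | zero => simp
    | succ M ih =>
      rw [Finset.sum_range_succ, ih, eq_neg_of_add_eq_zero_left (coeff_succ M k), neg_smul]
      abel
  refine Eq.trans (Finset.sum_congr rfl fun r _ => ?_) (Eq.trans (h N) ?_)
  · rw [map_smul, smul_comm (k : ℚ), ← smul_sub, inertia_minus, smul_add, smul_smul]
  rw [hN N le_rfl, smul_zero, sub_zero]
  rcases k with _ | k <;> simp [coeff]

theorem sum_proj (v : K) :
    (∑ᶠ k : ℕ, ∑ᶠ r : ℕ, coeff r k • inertiaR r v) = v := by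
  obtain ⟨N, hN⟩ := exists_bound v
  simp only [proj_finite hN]
  rw [finsum_eq_sum_of_support_subset (s := Finset.range N) _ fun k hk => by
    simp only [Finset.coe_range, Set.mem_Iio]
    by_contra h
    refine hk (Finset.sum_eq_zero fun r hr => ?_)
    rw [coeff, Nat.choose_eq_zero_of_lt (lt_of_lt_of_le (Finset.mem_range.1 hr) (not_lt.1 h))]
    simp]
  rw [Finset.sum_comm]
  rcases N with _ | N
  · simpa [inertiaR_zero] using (hN 0 le_rfl).symm
  rw [Finset.sum_eq_single_of_mem 0 (Finset.mem_range.2 N.succ_pos) fun r hr h0 => ?_]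
  · rw [← Finset.sum_smul, inertiaR_zero, Finset.sum_eq_single_of_mem 0 (Finset.mem_range.2 N.succ_pos) fun k _ hk => by
      simp [coeff, Nat.choose_eq_zero_of_lt (Nat.pos_of_ne_zero hk)]]
    simp [coeff]
  · rw [← Finset.sum_smul, ← Finset.sum_subset (Finset.range_subset_range.2 (Finset.mem_range.1 hr))
      (fun k _ hk => by
        simp only [Finset.mem_range, not_lt] at hk
        simp [coeff, Nat.choose_eq_zero_of_lt (show r < k by omega)])]
    have h : ∑ k ∈ Finset.range (r + 1), coeff r k =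
        ((-1 : ℚ) ^ r / (Nat.factorial r : ℚ)) * ∑ k ∈ Finset.range (r + 1), (-1 : ℚ) ^ k * 1 ^ (r - k) * (Nat.choose r k : ℚ) := by
      rw [Finset.mul_sum]
      refine Finset.sum_congr rfl fun k _ => ?_
      rw [coeff, pow_add, one_pow]
      ring
    rw [h, ← add_pow, neg_add_cancel, zero_pow h0, mul_zero, zero_smul]

theorem centerCard_pos (i : Idx) : 0 < i.centerCard := Nat.card_pos

theorem single_mem_Kge {k : ℕ} {i : Idx} (h : k ≤ i.centerCard) : Finsupp.single i (1 : ℚ) ∈ Kge k :=
  Finsupp.single_mem_supported ℚ _ h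

theorem W_mem_Kge (G : Type u) [Group G] [Finite G] {r : ℕ} (s : CommTuple G r) :
    (∀ a, s.1 a ∈ Subgroup.center G) ∧ W G (Set.range s.1) = (Nat.card G : ℚ) • cl G ∨
      (¬ ∀ a, s.1 a ∈ Subgroup.center G) ∧ W G (Set.range s.1) ∈ Kge (Nat.card (Subgroup.center G) + 1) := by
  by_cases h : ∀ a, s.1 a ∈ Subgroup.center G
  · left
    have e : Subgroup.centralizer (Set.range s.1) = ⊤ :=
      Subgroup.centralizer_eq_top_iff_subset.2 (Set.range_subset_iff.2 h)
    refine ⟨h, ?_⟩
    rw [W, cl_congr ((MulEquiv.subgroupCongr e).trans Subgroup.topEquiv),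
      Nat.card_congr ((MulEquiv.subgroupCongr e).trans Subgroup.topEquiv).toEquiv]
  · right
    refine ⟨h, Submodule.smul_mem _ _ (single_mem_Kge ?_)⟩
    rw [centerCard_of]
    obtain ⟨a, ha⟩ := not_forall.1 h
    let C := Subgroup.centralizer (Set.range s.1)
    let H := (Subgroup.center C).map C.subtype
    have h₁ : Subgroup.center G ≤ H := fun z hz =>
      ⟨⟨z, fun y _ => (Subgroup.mem_center_iff.1 hz y)⟩,
        Subgroup.mem_center_iff.2 fun y => Subtype.ext (Subgroup.mem_center_iff.1 hz y.1), rfl⟩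
    have h₂ : s.1 a ∈ H :=
      ⟨⟨s.1 a, by rintro _ ⟨b, rfl⟩; exact s.2.2 b a⟩,
        Subgroup.mem_center_iff.2 fun y => Subtype.ext (y.2 _ (Set.mem_range_self a)).symm, rfl⟩
    have hlt : Nat.card (Subgroup.center G) < Nat.card H :=
      Set.ncard_lt_ncard (show (Subgroup.center G : Set G) ⊂ H from ⟨h₁, fun h => ha (h h₂)⟩) (Set.toFinite _)
    rwa [← Nat.card_congr ((Subgroup.center C).equivMapOfInjective C.subtype C.subtype_injective).toEquiv] at hlt

theorem mem_Kge_of_centre (r : ℕ) (i : Idx) (k : ℕ) (hk : k ≤ i.centerCard) :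
    inertiaR r (Finsupp.single i 1) ∈ Kge k := by
  rw [inertiaR_single, inertiaROf_eq]
  refine Submodule.smul_mem _ _ (Submodule.sum_mem _ fun s _ => ?_)
  rcases W_mem_Kge i.rep s with ⟨-, e⟩ | ⟨-, e⟩
  · rw [e, cl_rep]; exact Submodule.smul_mem _ _ (single_mem_Kge hk)
  · exact Finsupp.supported_mono (fun j hj => (le_trans hk (Nat.le_of_succ_le hj) : k ≤ j.centerCard)) e

theorem sub_mem_Kge_of_centre_eq (r : ℕ) (i : Idx) (k : ℕ) (hk : i.centerCard = k) :
    inertiaR r (Finsupp.single i 1) - ((Nat.factorial r * Nat.choose k r : ℕ) : ℚ) • Finsupp.single i 1 ∈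
      Kge (k + 1) := by
  classical
  subst hk
  rw [inertiaR_single, inertiaROf_eq, ← Finset.sum_filter_add_sum_filter_not _
    (fun s : CommTuple i.rep r => ∀ a, s.1 a ∈ Subgroup.center i.rep), smul_add, add_sub_right_comm]
  refine add_mem ?_ (Submodule.smul_mem _ _ (Submodule.sum_mem _ fun s hs => ?_))
  · convert zero_mem (Kge (i.centerCard + 1)) using 1
    rw [sub_eq_zero, Finset.sum_congr rfl (g := fun _ => (Nat.card i.rep : ℚ) • cl i.rep) (fun s hs =>
        ((W_mem_Kge i.rep s).resolve_right fun h => h.1 (Finset.mem_filter.1 hs).2).2), Finset.sum_const,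
      ← Nat.cast_smul_eq_nsmul ℚ, smul_smul, smul_smul, ← cl_rep i]
    congr 1
    letI : Fintype (Subgroup.center i.rep) := Fintype.ofFinite _
    have e : (Finset.univ.filter fun s : CommTuple i.rep r => ∀ a, s.1 a ∈ Subgroup.center i.rep).card =
        Nat.factorial r * Nat.choose i.centerCard r := by
      rw [← Nat.descFactorial_eq_factorial_mul_choose, Idx.centerCard, Nat.card_eq_fintype_card,
        ← Fintype.card_subtype]
      conv_rhs => rw [← Fintype.card_fin r, ← Fintype.card_embedding_eq]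
      refine Fintype.card_congr
        ⟨fun s => ⟨fun a => ⟨s.1.1 a, s.2 a⟩, fun a b h => s.1.2.1 (congrArg Subtype.val h)⟩,
          fun f => ⟨⟨fun a => (f a).1, Subtype.val_injective.comp f.injective,
            fun a b => (Subgroup.mem_center_iff.1 (f b).2 _)⟩, fun a => (f a).2⟩,
          fun _ => rfl, fun _ => rfl⟩
    rw [e]
    have : (Nat.card i.rep : ℚ) ≠ 0 := Nat.cast_ne_zero.2 Nat.card_pos.ne'
    field_simp
  · exact ((W_mem_Kge i.rep s).resolve_left fun h => (Finset.mem_filter.1 hs).2 h.1).2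

theorem inertiaR_sub_smul_mem (r k : ℕ) (v : K) (hv : v ∈ Kge k) :
    inertiaR r v - ((Nat.factorial r * Nat.choose k r : ℕ) : ℚ) • v ∈ Kge (k + 1) := by
  rw [Kge, Finsupp.supported_eq_span_single] at hv
  induction hv using Submodule.span_induction with
  | zero => simp
  | add x y _ _ hx hy =>
    rw [map_add, smul_add, add_sub_add_comm]
    exact add_mem hx hy
  | smul a x _ hx =>
    rw [map_smul, smul_comm, ← smul_sub]
    exact Submodule.smul_mem _ a hx
  | mem x hx =>
    obtain ⟨i, hi, rfl⟩ := hx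
    rcases eq_or_lt_of_le (show k ≤ i.centerCard from hi) with hk | hk
    swap
    · exact sub_mem (mem_Kge_of_centre r i (k + 1) (Nat.succ_le_of_lt hk))
        (Submodule.smul_mem _ _ (Finsupp.single_mem_supported ℚ _ (Nat.succ_le_of_lt hk)))
    · exact sub_mem_Kge_of_centre_eq r i k hk.symm

theorem eigenvalue_pos {v : K} (h : inertia v = (0 : ℚ) • v) : v = 0 := by
  by_contra hv
  obtain ⟨i, hi, hmin⟩ := Finset.exists_min_image v.support Idx.centerCard (Finsupp.support_nonempty_iff.2 hv)
  have := inertiaR_sub_smul_mem 1 i.centerCard v ((Finsupp.mem_supported' ℚ v).2 fun j hj => by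
    by_contra hj'
    exact hj (hmin j (Finsupp.mem_support_iff.2 hj')))
  rw [show inertiaR 1 v = 0 by simpa using h] at this
  have h₀ := (Finsupp.mem_supported' ℚ _).1 this i (fun hc : i.centerCard + 1 ≤ i.centerCard => by omega)
  simp [(centerCard_pos i).ne'] at h₀
  exact (Finsupp.mem_support_iff.1 hi) h₀

theorem inertia_cl_of_comm (G : Type u) [CommGroup G] [Finite G] : inertia (cl G) = (Nat.card G : ℚ) • cl G := by
  letI : Fintype G := Fintype.ofFinite G
  rw [inertiaR_cl, inertiaROf_eq, Finset.sum_congr rfl (fun s _ => ((W_mem_Kge G s).resolve_right fun h =>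
    h.1 fun a => Subgroup.mem_center_iff.2 fun g => mul_comm _ _).2), Finset.sum_const, Finset.card_univ,
    ← Nat.cast_smul_eq_nsmul ℚ, smul_smul, smul_smul, ← Nat.card_eq_fintype_card]
  congr 1
  rw [Nat.card_congr (⟨fun t => t.1 0, fun g => ⟨fun _ => g, fun a b _ => Subsingleton.elim a b, fun _ _ => Commute.refl g⟩,
    fun t => Subtype.ext (funext fun a => by rw [Subsingleton.elim a 0]), fun g => rfl⟩ : CommTuple G 1 ≃ G)]
  have : (Nat.card G : ℚ) ≠ 0 := Nat.cast_ne_zero.2 Nat.card_pos.ne'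
  field_simp

end Groth.Agent.InertiaK
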